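import Cfsg.Agent.H31.FR.Ratio

/-!
# The ratio bound on the radical of order `q^7` (box R′ of helper395)

`AA = [41, .., 47]` : the positive roots with coefficient 2 at the node `0`; `EE K AA` is conjugate to the group of the ratio
bound of helper572, helper31, helper296.
-/

set_option autoImplicit false
set_option linter.unusedSectionVars false

namespace Cfsg.Agent.H224.FR

open CoxeterSystem Cfsg.Agent.ChevalleyStructure.CoxeterGeom Cfsg.Agent.Tits.Roots Cfsg.Agent.Nodes.Reps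
  Cfsg.Agent.Nodes.BNOf Cfsg.Agent.Nodes.RGDChev Cfsg.Agent.KFacts.RgdChevCoord Cfsg.Agent.OddHalf.NI.ModelChev
open Cfsg.Lie Cfsg.Agent.ChevalleyStructure Cfsg.Agent.ChevalleyStructure.RootVec Cfsg.Agent.ChevalleyStructure.NPerm
open Cfsg.Agent.H701.F43.Cent (hF cF nroots)
open Cfsg.Agent.ChevalleyStructure.CoxeterGeomTypes Cfsg.Agent.Nodes.StabComb Cfsg.Agent.Nodes.Bruhat Cfsg.Agent.Nodes.OppDec
  Cfsg.Agent.Nodes.LeviDec Cfsg.Agent.Nodes.NormX Cfsg.Agent.Nodes.Coroot Cfsg.Agent.KFacts.RgdPar Cfsg.Agent.KFacts.RgdTI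
  Cfsg.Agent.KFacts.RgdCent Cfsg.Agent.Nodes.ChevCls Cfsg.Agent.H225.PPow Cfsg.Agent.ChevalleyStructure.Elts
open Cfsg.Agent.H31.FR (exists_er rr ss rr_lt rr_mem mem_rr ss_sq mem_of_single)
open Cfsg.Agent.H572.FR (FF mem_FF ratio_bound_gen)
open Cfsg.Agent.LieClassical Cfsg.Agent.LieClassical.OrthForms Cfsg.Agent.LieClassical.OrthCore

universe u

variable {K : Type u} [Field K]

/-- the ratio bound in the general form, on the group `EE K L0` -/
theorem ratio0 [Finite K] (h2 : (2 : K) ≠ 0) (h3 : 3 ≤ Nat.card K) {d : ℕ}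
    (ρ : Representation ℂ ↥(chevF4.group K) (Fin d → ℂ)) (hirr : ρ.IsIrreducible) (hρ : ρ.character ≠ (fun _ => 1))
    {a : ↥(chevF4.group K)} (ha : a ∈ EE K L0) (ha1 : a ≠ 1) :
    ‖ρ.character a‖ * ((Nat.card K : ℝ) ^ 6 - ((Nat.card K : ℝ) - 7) * (Nat.card K : ℝ) ^ 3 - 1) ≤
      (((Nat.card K : ℝ) + 5) * (Nat.card K : ℝ) ^ 3 + 1) * d := by
  classical
  obtain ⟨e, he1, he2, he3⟩ := exists_er h2
  have hX : ∀ k t, e (.ofAdd (Pi.single k t)) ∈ X K (rr k) := fun k t => by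
    rw [mem_X (rr_lt k)]
    exact ⟨_, he3 k t⟩
  have hrange : e.range = EE K L0 := by
    apply le_antisymm
    · rintro _ ⟨w, rfl⟩
      exact mem_of_single e (EE K L0) w.toAdd fun k => X_le_EE (rr_mem k) (hX k _)
    · apply EE_le
      intro r hr y hy
      obtain ⟨k, rfl⟩ := mem_rr r hr
      rw [mem_X (rr_lt k)] at hy
      obtain ⟨a, rfl⟩ := hy
      refine ⟨.ofAdd (Pi.single k (ss K k * a)), ?_⟩
      rw [he3, ← mul_assoc, ss_sq, one_mul]
  obtain ⟨s1, n, s3, c, h1, h3', h4, h6, h7, h8⟩ := rthree (K := K)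
  have hF' : ∀ (H : Subgroup ↥(chevF4.group K)), (∀ r ∈ [2, 16, 17], X K r ≤ H) → ∀ w ∈ FF K, e (.ofAdd w) ∈ H := by
    intro H hH w hw
    rw [mem_FF] at hw
    refine mem_of_single e H w fun k => ?_
    rcases k with k | k | k
    · rw [show w (Sum.inl k) = 0 from hw.1, Pi.single_zero, ofAdd_zero, map_one]
      exact H.one_mem
    · refine hH (rr (.inr (.inl k))) ?_ (hX _ _)
      revert k
      decide
    · rw [hw.2, Pi.single_zero, ofAdd_zero, map_one]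
      exact H.one_mem
  have hc : ∀ w ∈ FF K, c * e (.ofAdd w) * c⁻¹ ∈ X K 0 ⊔ X K 1 ⊔ X K 15 := by
    intro w hw
    have h9 := hF' ((X K 0 ⊔ X K 1 ⊔ X K 15).comap (MulAut.conj c).toMonoidHom)
      (fun r hr => Subgroup.map_le_iff_le_comap.1 (h7 r hr)) w hw
    exact h9
  rw [← hrange] at ha
  obtain ⟨w, rfl⟩ := ha
  have hw : w.toAdd ≠ 0 := by
    intro h
    apply ha1
    have : w = 1 := by rw [← ofAdd_toAdd w, h, ofAdd_zero]
    rw [this, map_one]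
  have key := ratio_bound_gen h2 h3 (e := e) he2 (E1 := EE K L1) (E2 := EE K L2) (E3 := EE K L3) (s1 := s1) (n := n)
    (s3 := s3) (c := c) (by rw [hrange]; exact h1) (by rw [hrange]; exact h3') h4 h6
    (hF' _ fun r hr => X_le_EE (by revert r; decide))
    (fun w hw => sup_le (sup_le (X_le_EE (by decide)) (X_le_EE (by decide))) (X_le_EE (by decide)) (hc w hw))
    (fun w hw => sup_le (sup_le (X_le_EE (by decide)) (X_le_EE (by decide))) (X_le_EE (by decide)) (hc w hw))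
    (by rw [hrange]; exact h8) ρ hirr hρ hw
  exact key.1

/-- the roots with coefficient 2 at the node `0` -/
def AA : List ℕ := [41, 42, 43, 44, 45, 46, 47]

def WA : List (Fin 4) := [0, 1, 2, 3, 1, 2, 0, 1]

theorem tA : L0.map (wact chevF4 WA) = [44, 41, 42, 43, 47, 46, 45] := by decide +kernel

/-- `EE K AA` is conjugate to `EE K L0`. -/
theorem exists_conj [Finite K] : ∃ g : ↥(chevF4.group K), EE K AA = (EE K L0).map (MulAut.conj g).toMonoidHom := by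
  obtain ⟨p, hpc⟩ := CharP.exists K
  have : Fact p.Prime := ⟨CharP.char_is_prime K p⟩
  obtain ⟨g, h1⟩ := exists_rp cF (rgd (K := K) hF cF p).nsys (cF.wordProd WA)
  refine ⟨g, ?_⟩
  refine Eq.trans ?_ (cj_EE p h1 (L := L0) (by decide)).symm
  rw [tA]
  exact EE_congr (mem_iff_of_sub (by decide) (by decide))

/-- **the ratio bound on `A`, all odd `q`** -/
theorem ratioA [Finite K] (h2 : (2 : K) ≠ 0) (h3 : 3 ≤ Nat.card K) {d : ℕ}
    (ρ : Representation ℂ ↥(chevF4.group K) (Fin d → ℂ)) (hirr : ρ.IsIrreducible) (hρ : ρ.character ≠ (fun _ => 1))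
    {a : ↥(chevF4.group K)} (ha : a ∈ EE K AA) (ha1 : a ≠ 1) :
    ‖ρ.character a‖ * ((Nat.card K : ℝ) ^ 6 - ((Nat.card K : ℝ) - 7) * (Nat.card K : ℝ) ^ 3 - 1) ≤
      (((Nat.card K : ℝ) + 5) * (Nat.card K : ℝ) ^ 3 + 1) * d := by
  obtain ⟨g, hg⟩ := exists_conj (K := K)
  rw [hg] at ha
  obtain ⟨b, hb, rfl⟩ := ha
  have hb1 : b ≠ 1 := by
    rintro rfl
    exact ha1 (map_one _)
  have e : ρ.character ((MulAut.conj g).toMonoidHom b) = ρ.character b := by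
    show ρ.character (g * b * g⁻¹) = _
    rw [Representation.char_conj]
  rw [e]
  exact ratio0 h2 h3 ρ hirr hρ hb hb1

theorem nine_aux {q x d : ℝ} (hq : 9 ≤ q) (hd : 0 ≤ d)
    (h : x * (q ^ 6 - (q - 7) * q ^ 3 - 1) ≤ ((q + 5) * q ^ 3 + 1) * d) : x ≤ 1 / 50 * d := by
  have h6 : (729 : ℝ) ≤ q ^ 3 := by
    calc (729 : ℝ) = 9 ^ 3 := by norm_num
      _ ≤ q ^ 3 := pow_le_pow_left₀ (by norm_num) hq 3
  have h8 : 1 ≤ q ^ 3 - 51 * q - 243 := by
    nlinarith [mul_nonneg (sub_nonneg.2 hq) (sub_nonneg.2 hq), sq_nonneg (q - 9), sq_nonneg q]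
  have h9 : 50 * ((q + 5) * q ^ 3 + 1) ≤ q ^ 6 - (q - 7) * q ^ 3 - 1 := by nlinarith
  have h10 : 0 < q ^ 6 - (q - 7) * q ^ 3 - 1 := by nlinarith
  have h11 := mul_le_mul_of_nonneg_right h9 hd
  have h12 : x * (q ^ 6 - (q - 7) * q ^ 3 - 1) ≤ (1 / 50 * d) * (q ^ 6 - (q - 7) * q ^ 3 - 1) := by linarith
  exact le_of_mul_le_mul_right h12 h10

/-- `q ≥ 9` : `|χ(a)| ≤ χ(1)/50` -/
theorem ratioA_nine [Finite K] (h2 : (2 : K) ≠ 0) (h9 : 9 ≤ Nat.card K) {d : ℕ}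
    (ρ : Representation ℂ ↥(chevF4.group K) (Fin d → ℂ)) (hirr : ρ.IsIrreducible) (hρ : ρ.character ≠ (fun _ => 1))
    {a : ↥(chevF4.group K)} (ha : a ∈ EE K AA) (ha1 : a ≠ 1) : ‖ρ.character a‖ ≤ 1 / 50 * d :=
  nine_aux (by exact_mod_cast h9) (Nat.cast_nonneg _) (ratioA h2 (by omega) ρ hirr hρ ha ha1)

/-- `q ≥ 5` : `|χ(a)| ≤ 2/25 χ(1)` -/
theorem ratioA_five [Finite K] (h2 : (2 : K) ≠ 0) (h5 : 5 ≤ Nat.card K) {d : ℕ}
    (ρ : Representation ℂ ↥(chevF4.group K) (Fin d → ℂ)) (hirr : ρ.IsIrreducible) (hρ : ρ.character ≠ (fun _ => 1))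
    {a : ↥(chevF4.group K)} (ha : a ∈ EE K AA) (ha1 : a ≠ 1) : ‖ρ.character a‖ ≤ 2 / 25 * d :=
  Cfsg.Agent.H572.FR.five_aux (by exact_mod_cast h5) (norm_nonneg _) (Nat.cast_nonneg _)
    (ratioA h2 (by omega) ρ hirr hρ ha ha1)

/-- `A` as a join over roots -/
theorem EE_AA : EE K AA = RGD.Sup (XX chevF4 4 K) {x | IsRoot cF hF.isCartan x ∧ x 0 = 2} := by
  have tab : ∀ r < chevF4.nroots, (vec chevF4 4 r 0 = 2 ↔ r ∈ AA) := by decide +kernel
  apply le_antisymm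
  · refine EE_le fun r hr => ?_
    have hr' : r < chevF4.nroots := by
      rw [nroots]
      revert r
      decide
    exact RGD.le_Sup ⟨(isRoot_iff hF cF _).2 ⟨r, hr', rfl⟩, (tab r hr').2 hr⟩
  · refine RGD.Sup_le fun x hx => ?_
    obtain ⟨r, hr, rfl⟩ := (isRoot_iff hF cF x).1 hx.1
    exact X_le_EE ((tab r hr).1 hx.2)

end Cfsg.Agent.H224.FR
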