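import Cfsg.Agent.H701.F43.Cent
import Cfsg.Agent.KFacts.RgdEx

/-!
# Four conjugate elementary abelian subgroups of `F₄(q)` (ratio bound of helper572, box R3)

`X r` is the root subgroup of the root with number `r` (`-r` has the number `47 - r`), `EE L = ⨆ r ∈ L, X r`.
-/

set_option autoImplicit false
set_option linter.unusedSectionVars false

namespace Cfsg.Agent.H224.FR

open CoxeterSystem Cfsg.Agent.ChevalleyStructure.CoxeterGeom Cfsg.Agent.Tits.Roots Cfsg.Agent.Tits.Core
  Cfsg.Agent.Tits.Exchange Cfsg.Agent.Nodes.Reps Cfsg.Agent.Nodes.BNOf Cfsg.Agent.Nodes.StabComb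
  Cfsg.Agent.Nodes.Bruhat Cfsg.Agent.Nodes.OppDec Cfsg.Agent.Nodes.LeviDec Cfsg.Agent.Nodes.NormX
  Cfsg.Agent.Nodes.Coroot Cfsg.Agent.Nodes.RGDChev Cfsg.Agent.KFacts.RgdPar Cfsg.Agent.KFacts.RgdTI
  Cfsg.Agent.KFacts.RgdCent Cfsg.Agent.KFacts.RgdChevCoord Cfsg.Agent.Nodes.ChevCls
  Cfsg.Agent.OddHalf.NI.ModelChev Cfsg.Agent.H225.PPow Cfsg.Agent.KFacts.RgdEx Cfsg.Agent.Nodes.PosPair
  Cfsg.Agent.KFacts.RgdSL Cfsg.Agent.KFacts.RgdOdd
open Cfsg.Lie Cfsg.Agent.ChevalleyStructure Cfsg.Agent.ChevalleyStructure.Elts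
  Cfsg.Agent.ChevalleyStructure.RootVec Cfsg.Agent.ChevalleyStructure.NPerm
  Cfsg.Agent.ChevalleyStructure.CoxeterGeomTypes
open Cfsg.Agent.H701.F43.Cent (hF cF nroots)

universe u

variable (K : Type u) [Field K]

/-- the root subgroup with number `r` -/
abbrev X (r : ℕ) : Subgroup ↥(chevF4.group K) := XX chevF4 4 K (vec chevF4 4 r)

/-- the join of the root subgroups with numbers in `L` -/
def EE (L : List ℕ) : Subgroup ↥(chevF4.group K) := ⨆ r ∈ L, X K r

variable {K}

theorem mem_X {r : ℕ} (hr : r < 48) (y : ↥(chevF4.group K)) : y ∈ X K r ↔ ∃ a, y = xc hF (vec chevF4 4 r) a :=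
  mem_XX hF (by rw [nroots]; exact hr) y

theorem X_le_EE {L : List ℕ} {r : ℕ} (h : r ∈ L) : X K r ≤ EE K L := le_iSup₂_of_le r h le_rfl

theorem EE_le {L : List ℕ} {H : Subgroup ↥(chevF4.group K)} (h : ∀ r ∈ L, X K r ≤ H) : EE K L ≤ H := iSup₂_le h

theorem EE_congr {L L' : List ℕ} (h : ∀ r, r ∈ L ↔ r ∈ L') : EE K L = EE K L' :=
  le_antisymm (EE_le fun r hr => X_le_EE ((h r).1 hr)) (EE_le fun r hr => X_le_EE ((h r).2 hr))

theorem isRoot {r : ℕ} (hr : r < 48) : IsRoot cF hF.isCartan (vec chevF4 4 r) :=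
  (isRoot_iff hF cF _).2 ⟨r, by rw [nroots]; exact hr, rfl⟩

variable [Finite K]

section

variable (p : ℕ) [Fact p.Prime] [CharP K p]

/-- conjugation by a representative of a word -/
theorem cj_X {ω : List (Fin 4)} {g : ↥(chevF4.group K)}
    (hg : Rp cF (rgd (K := K) hF cF p).nsys (cF.wordProd ω) g) {r : ℕ} (hr : r < 48) :
    cj g (X K r) = X K (wact chevF4 ω r) := by
  rw [X, (rgd (K := K) hF cF p).conj_rp hg (isRoot hr), rep_word hF cF ω (by rw [nroots]; exact hr)]

theorem cj_EE {ω : List (Fin 4)} {g : ↥(chevF4.group K)}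
    (hg : Rp cF (rgd (K := K) hF cF p).nsys (cF.wordProd ω) g) {L : List ℕ} (hL : ∀ r ∈ L, r < 48) :
    cj g (EE K L) = EE K (L.map (wact chevF4 ω)) := by
  rw [EE, cj_iSup]
  apply le_antisymm
  · refine iSup_le fun r => ?_
    rw [cj_iSup]
    refine iSup_le fun hr => ?_
    rw [cj_X p hg (hL r hr)]
    exact X_le_EE (List.mem_map_of_mem hr)
  · refine EE_le fun s hs => ?_
    obtain ⟨r, hr, rfl⟩ := List.mem_map.1 hs
    rw [← cj_X p hg (hL r hr)]
    refine le_iSup_of_le r ?_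
    rw [cj_iSup]
    exact le_iSup_of_le hr le_rfl


/-- `⟨y, x^∨⟩` for a root `x` given by a word -/
theorem cpr_word (ω : List (Fin 4)) (i : Fin 4) {b : ℕ} (hb : b < 48) :
    cpr cF hF.isCartan (vec chevF4 4 b) (vec chevF4 4 (wact chevF4 ω (chevF4.simple i))) =
      chevF4.cartan i (wact chevF4 ω.reverse b) := by
  have hb' : b < chevF4.nroots := by rw [nroots]; exact hb
  have hr : IsRoot cF hF.isCartan (vec chevF4 4 b) := isRoot hb
  have e : vec chevF4 4 (wact chevF4 ω (chevF4.simple i)) = rep cF hF.isCartan (cF.wordProd ω) (sr i) := by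
    rw [← vec_simple hF i, rep_word hF cF _ (RootVec.simple_lt hF.checked (lt_rank hF i))]
  have h1 : cpr cF hF.isCartan (rep cF hF.isCartan (cF.wordProd ω)⁻¹ (vec chevF4 4 b)) (sr i) =
      cpr cF hF.isCartan (vec chevF4 4 b) (vec chevF4 4 (wact chevF4 ω (chevF4.simple i))) := by
    rw [cpr_rep_left _ _ (isRoot_sr cF hF.isCartan i), inv_inv, e]
  rw [← h1, ← wordProd_reverse, rep_word hF cF _ hb', Cfsg.Agent.Nodes.ChevCls.cpr_vec hF cF i (wact_lt hF _ hb')]

theorem neg_eq {r : ℕ} (hr : r < 48) : -vec chevF4 4 r = vec chevF4 4 (47 - r) := by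
  have h : ∀ r < 48, chevF4.neg r = 47 - r := by decide +kernel
  rw [← h r hr, vec_neg hF (by rw [nroots]; exact hr)]

include p in
/-- one reflection -/
theorem step (ω : List (Fin 4)) (i : Fin 4) {r b t : ℕ} (hr : wact chevF4 ω (chevF4.simple i) = r) (hr' : r < 48)
    (hb : b < 48) (ht : vec chevF4 4 t = vec chevF4 4 b - chevF4.cartan i (wact chevF4 ω.reverse b) • vec chevF4 4 r)
    {H : Subgroup ↥(chevF4.group K)} (h1 : X K r ≤ H) (h2 : X K (47 - r) ≤ H) (h3 : X K b ≤ H) : X K t ≤ H := by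
  have R := rgd (K := K) hF cF p
  have hr2 : r < chevF4.nroots := by rw [nroots]; exact hr'
  have hu : xc hF (vec chevF4 4 r) (1 : K) ∈ X K r := (mem_X hr' _).2 ⟨1, rfl⟩
  have hu1 : xc hF (vec chevF4 4 r) (1 : K) ≠ (1 : ↥(chevF4.group K)) :=
    ((coords (K := K) hF cF p).coord _ (isRoot hr')).ne_one one_ne_zero
  obtain ⟨s, hs, a, ha, c, hc, m, hm, he⟩ := exists_mu R (isRoot hr') hu hu1
  rw [neg_eq hr'] at ha hc
  have hmH : m ∈ H := by
    rw [he]
    exact mul_mem (mul_mem (h2 ha) (h1 hu)) (h2 hc)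
  have h4 : cj m (X K b) = X K t := by
    rw [X, R.conj_rp hm (isRoot hb), hs, X, ht, ← hr, cpr_word ω i hb]
  rw [← h4, ← cj_eq_of_mem hmH]
  exact cj_mono m h3

end

/-- the four sets of roots -/
def L0 : List ℕ := [20, 2, 16, 17, 43, 26, 25]
def L1 : List ℕ := [7, 0, 1, 15, 2, 16, 17]
def L2 : List ℕ := [39, 25, 26, 43, 32, 46, 47]
def L3 : List ℕ := [8, 4, 21, 22, 0, 1, 15]

theorem top_eq : EE K L0 ⊔ EE K L1 ⊔ EE K L2 ⊔ EE K L3 = ⊤ := by
  obtain ⟨p, hpc⟩ := CharP.exists K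
  have : Fact p.Prime := ⟨CharP.char_is_prime K p⟩
  set H : Subgroup ↥(chevF4.group K) := EE K L0 ⊔ EE K L1 ⊔ EE K L2 ⊔ EE K L3 with hH
  have a0 : ∀ r ∈ L0, X K r ≤ H := fun r h =>
    le_trans (X_le_EE h) (le_trans le_sup_left (le_trans le_sup_left le_sup_left))
  have a1 : ∀ r ∈ L1, X K r ≤ H := fun r h =>
    le_trans (X_le_EE h) (le_trans le_sup_right (le_trans le_sup_left le_sup_left))
  have a2 : ∀ r ∈ L2, X K r ≤ H := fun r h => le_trans (X_le_EE h) (le_trans le_sup_right le_sup_left)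
  have a3 : ∀ r ∈ L3, X K r ≤ H := fun r h => le_trans (X_le_EE h) le_sup_right
  have x20 : X K 20 ≤ H := a0 20 (by decide)
  have x2 : X K 2 ≤ H := a0 2 (by decide)
  have x16 : X K 16 ≤ H := a0 16 (by decide)
  have x17 : X K 17 ≤ H := a0 17 (by decide)
  have x43 : X K 43 ≤ H := a0 43 (by decide)
  have x26 : X K 26 ≤ H := a0 26 (by decide)
  have x25 : X K 25 ≤ H := a0 25 (by decide)
  have x7 : X K 7 ≤ H := a1 7 (by decide)
  have x0 : X K 0 ≤ H := a1 0 (by decide)
  have x1 : X K 1 ≤ H := a1 1 (by decide)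
  have x15 : X K 15 ≤ H := a1 15 (by decide)
  have x39 : X K 39 ≤ H := a2 39 (by decide)
  have x32 : X K 32 ≤ H := a2 32 (by decide)
  have x46 : X K 46 ≤ H := a2 46 (by decide)
  have x47 : X K 47 ≤ H := a2 47 (by decide)
  have x8 : X K 8 ≤ H := a3 8 (by decide)
  have x4 : X K 4 ≤ H := a3 4 (by decide)
  have x21 : X K 21 ≤ H := a3 21 (by decide)
  have x22 : X K 22 ≤ H := a3 22 (by decide)
  have x24 : X K 24 ≤ H := step p [3, 2, 1, 2, 3, 0, 1, 2] 2 (r := 0) (b := 1) (by decide +kernel) (by norm_num) (by norm_num)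
    (by decide +kernel) x0 x47 x1
  have x31 : X K 31 ≤ H := step p [3, 2, 1, 2, 3, 0, 1, 2] 2 (r := 0) (b := 4) (by decide +kernel) (by norm_num) (by norm_num)
    (by decide +kernel) x0 x47 x4
  have x36 : X K 36 ≤ H := step p [3, 2, 1, 2, 3, 0, 1, 2] 2 (r := 0) (b := 7) (by decide +kernel) (by norm_num) (by norm_num)
    (by decide +kernel) x0 x47 x7
  have x38 : X K 38 ≤ H := step p [3, 2, 1, 2, 3, 0, 1, 2] 2 (r := 0) (b := 8) (by decide +kernel) (by norm_num) (by norm_num)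
    (by decide +kernel) x0 x47 x8
  have x42 : X K 42 ≤ H := step p [3, 2, 1, 2, 3, 0, 1, 2] 2 (r := 0) (b := 15) (by decide +kernel) (by norm_num) (by norm_num)
    (by decide +kernel) x0 x47 x15
  have x45 : X K 45 ≤ H := step p [3, 2, 1, 2, 3, 0, 1, 2] 2 (r := 0) (b := 21) (by decide +kernel) (by norm_num) (by norm_num)
    (by decide +kernel) x0 x47 x21
  have x5 : X K 5 ≤ H := step p [3, 2, 1, 2, 3, 0, 1, 2] 2 (r := 0) (b := 32) (by decide +kernel) (by norm_num) (by norm_num)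
    (by decide +kernel) x0 x47 x32
  have x9 : X K 9 ≤ H := step p [3, 2, 1, 2, 3, 0, 1, 2] 2 (r := 0) (b := 39) (by decide +kernel) (by norm_num) (by norm_num)
    (by decide +kernel) x0 x47 x39
  have x23 : X K 23 ≤ H := step p [3, 2, 1, 2, 3, 0, 1, 2] 2 (r := 0) (b := 46) (by decide +kernel) (by norm_num) (by norm_num)
    (by decide +kernel) x0 x47 x46
  have x30 : X K 30 ≤ H := step p [2, 1, 2, 3, 0, 1, 2] 2 (r := 1) (b := 4) (by decide +kernel) (by norm_num) (by norm_num)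
    (by decide +kernel) x1 x46 x4
  have x35 : X K 35 ≤ H := step p [2, 1, 2, 3, 0, 1, 2] 2 (r := 1) (b := 7) (by decide +kernel) (by norm_num) (by norm_num)
    (by decide +kernel) x1 x46 x7
  have x37 : X K 37 ≤ H := step p [2, 1, 2, 3, 0, 1, 2] 2 (r := 1) (b := 8) (by decide +kernel) (by norm_num) (by norm_num)
    (by decide +kernel) x1 x46 x8
  have x41 : X K 41 ≤ H := step p [2, 1, 2, 3, 0, 1, 2] 2 (r := 1) (b := 15) (by decide +kernel) (by norm_num) (by norm_num)
    (by decide +kernel) x1 x46 x15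
  have x6 : X K 6 ≤ H := step p [2, 1, 2, 3, 0, 1, 2] 2 (r := 1) (b := 32) (by decide +kernel) (by norm_num) (by norm_num)
    (by decide +kernel) x1 x46 x32
  have x10 : X K 10 ≤ H := step p [2, 1, 2, 3, 0, 1, 2] 2 (r := 1) (b := 39) (by decide +kernel) (by norm_num) (by norm_num)
    (by decide +kernel) x1 x46 x39
  have x34 : X K 34 ≤ H := step p [1, 2, 3, 0, 1, 2] 2 (r := 2) (b := 7) (by decide +kernel) (by norm_num) (by norm_num)
    (by decide +kernel) x2 x45 x7
  have x44 : X K 44 ≤ H := step p [1, 2, 3, 0, 1, 2] 2 (r := 2) (b := 20) (by decide +kernel) (by norm_num) (by norm_num)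
    (by decide +kernel) x2 x45 x20
  have x33 : X K 33 ≤ H := step p [2, 3, 0, 1, 2] 2 (r := 4) (b := 8) (by decide +kernel) (by norm_num) (by norm_num)
    (by decide +kernel) x4 x43 x8
  have x3 : X K 3 ≤ H := step p [2, 3, 0, 1, 2] 2 (r := 4) (b := 20) (by decide +kernel) (by norm_num) (by norm_num)
    (by decide +kernel) x4 x43 x20
  have x11 : X K 11 ≤ H := step p [2, 3, 0, 1, 2] 2 (r := 4) (b := 35) (by decide +kernel) (by norm_num) (by norm_num)
    (by decide +kernel) x4 x43 x35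
  have x12 : X K 12 ≤ H := step p [2, 3, 0, 1, 2] 2 (r := 4) (b := 36) (by decide +kernel) (by norm_num) (by norm_num)
    (by decide +kernel) x4 x43 x36
  have x14 : X K 14 ≤ H := step p [2, 3, 0, 1, 2] 2 (r := 4) (b := 39) (by decide +kernel) (by norm_num) (by norm_num)
    (by decide +kernel) x4 x43 x39
  have x27 : X K 27 ≤ H := step p [2, 3, 0, 1, 2] 2 (r := 4) (b := 44) (by decide +kernel) (by norm_num) (by norm_num)
    (by decide +kernel) x4 x43 x44
  have x13 : X K 13 ≤ H := step p [2, 3, 1, 2, 1, 0] 0 (r := 8) (b := 3) (by decide +kernel) (by norm_num) (by norm_num)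
    (by decide +kernel) x8 x39 x3
  have x28 : X K 28 ≤ H := step p [2, 3, 1, 2, 1, 0] 0 (r := 8) (b := 11) (by decide +kernel) (by norm_num) (by norm_num)
    (by decide +kernel) x8 x39 x11
  have x29 : X K 29 ≤ H := step p [2, 3, 1, 2, 1, 0] 0 (r := 8) (b := 12) (by decide +kernel) (by norm_num) (by norm_num)
    (by decide +kernel) x8 x39 x12
  have x40 : X K 40 ≤ H := step p [2, 3, 1, 2, 1, 0] 0 (r := 8) (b := 27) (by decide +kernel) (by norm_num) (by norm_num)
    (by decide +kernel) x8 x39 x27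
  have x18 : X K 18 ≤ H := step p [2, 3, 1, 2, 1, 0] 0 (r := 8) (b := 35) (by decide +kernel) (by norm_num) (by norm_num)
    (by decide +kernel) x8 x39 x35
  have x19 : X K 19 ≤ H := step p [2, 3, 1, 2, 1, 0] 0 (r := 8) (b := 36) (by decide +kernel) (by norm_num) (by norm_num)
    (by decide +kernel) x8 x39 x36
  have all : ∀ r < 48, X K r ≤ H := by
    intro r hr
    interval_cases r
    · exact x0
    · exact x1
    · exact x2
    · exact x3
    · exact x4
    · exact x5
    · exact x6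
    · exact x7
    · exact x8
    · exact x9
    · exact x10
    · exact x11
    · exact x12
    · exact x13
    · exact x14
    · exact x15
    · exact x16
    · exact x17
    · exact x18
    · exact x19
    · exact x20
    · exact x21
    · exact x22
    · exact x23
    · exact x24
    · exact x25
    · exact x26
    · exact x27
    · exact x28
    · exact x29
    · exact x30
    · exact x31
    · exact x32
    · exact x33
    · exact x34
    · exact x35
    · exact x36
    · exact x37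
    · exact x38
    · exact x39
    · exact x40
    · exact x41
    · exact x42
    · exact x43
    · exact x44
    · exact x45
    · exact x46
    · exact x47
  rw [eq_top_iff, ← G1_eq_top hF (K := K) cF]
  refine RGD.Sup_le fun x hx => ?_
  obtain ⟨r, hr, rfl⟩ := (isRoot_iff hF cF x).1 hx
  rw [nroots] at hr
  exact all r hr

def W1 : List (Fin 4) := [1, 2, 3, 1, 2, 0]
def WN : List (Fin 4) := [2, 1, 2, 3, 2, 1, 2, 0, 1, 2, 3, 1, 2, 0, 1, 2]
def W3 : List (Fin 4) := [1]
def WC : List (Fin 4) := [2, 3, 0, 1, 2, 0]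

theorem t1 : L0.map (wact chevF4 W1) = [7, 0, 1, 2, 17, 16, 15] := by decide +kernel
theorem t2 : L0.map (wact chevF4 WN) = [20, 25, 26, 43, 17, 16, 2] := by decide +kernel
theorem t3 : L1.map (wact chevF4 WN) = [39, 32, 46, 47, 25, 26, 43] := by decide +kernel
theorem t4 : L1.map (wact chevF4 W3) = [8, 0, 1, 15, 4, 21, 22] := by decide +kernel
theorem t5 : ([2, 16, 17] : List ℕ).map (wact chevF4 WC) = [0, 1, 15] := by decide +kernel

theorem mem_iff_of_sub {L L' : List ℕ} (h : (L.all fun x => L'.contains x) = true)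
    (h' : (L'.all fun x => L.contains x) = true) (r : ℕ) : r ∈ L ↔ r ∈ L' := by
  rw [List.all_eq_true] at h h'
  exact ⟨fun hr => by simpa using h r hr, fun hr => by simpa using h' r hr⟩

/-- **box R3** -/
theorem rthree : ∃ s1 n s3 c : ↥(chevF4.group K),
    EE K L1 = (EE K L0).map (MulAut.conj s1).toMonoidHom ∧
    EE K L0 = (EE K L0).map (MulAut.conj n).toMonoidHom ∧
    EE K L2 = (EE K L1).map (MulAut.conj n).toMonoidHom ∧
    EE K L3 = (EE K L1).map (MulAut.conj s3).toMonoidHom ∧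
    (∀ r ∈ [2, 16, 17], (X K r).map (MulAut.conj c).toMonoidHom ≤ X K 0 ⊔ X K 1 ⊔ X K 15) ∧
    EE K L0 ⊔ EE K L1 ⊔ EE K L2 ⊔ EE K L3 = ⊤ := by
  obtain ⟨p, hpc⟩ := CharP.exists K
  have : Fact p.Prime := ⟨CharP.char_is_prime K p⟩
  obtain ⟨s1, h1⟩ := exists_rp cF (rgd (K := K) hF cF p).nsys (cF.wordProd W1)
  obtain ⟨n, h2⟩ := exists_rp cF (rgd (K := K) hF cF p).nsys (cF.wordProd WN)
  obtain ⟨s3, h3⟩ := exists_rp cF (rgd (K := K) hF cF p).nsys (cF.wordProd W3)
  obtain ⟨c, h4⟩ := exists_rp cF (rgd (K := K) hF cF p).nsys (cF.wordProd WC)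
  refine ⟨s1, n, s3, c, ?_, ?_, ?_, ?_, ?_, top_eq⟩
  · refine Eq.trans ?_ (cj_EE p h1 (L := L0) (by decide)).symm
    rw [t1]; exact EE_congr (mem_iff_of_sub (by decide) (by decide))
  · refine Eq.trans ?_ (cj_EE p h2 (L := L0) (by decide)).symm
    rw [t2]; exact EE_congr (mem_iff_of_sub (by decide) (by decide))
  · refine Eq.trans ?_ (cj_EE p h2 (L := L1) (by decide)).symm
    rw [t3]; exact EE_congr (mem_iff_of_sub (by decide) (by decide))
  · refine Eq.trans ?_ (cj_EE p h3 (L := L1) (by decide)).symm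
    rw [t4]; exact EE_congr (mem_iff_of_sub (by decide) (by decide))
  · intro r hr
    have h5 : (X K r).map (MulAut.conj c).toMonoidHom = X K (wact chevF4 WC r) := by
      refine cj_X p h4 ?_
      simp only [List.mem_cons, List.not_mem_nil, or_false] at hr
      omega
    rw [h5]
    simp only [List.mem_cons, List.not_mem_nil, or_false] at hr
    rcases hr with rfl | rfl | rfl
    · have e : wact chevF4 WC 2 = 0 := by decide +kernel
      rw [e]; exact le_trans le_sup_left le_sup_left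
    · have e : wact chevF4 WC 16 = 1 := by decide +kernel
      rw [e]; exact le_trans le_sup_right le_sup_left
    · have e : wact chevF4 WC 17 = 15 := by decide +kernel
      rw [e]; exact le_sup_right

end Cfsg.Agent.H224.FR
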